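import Groth.Prelude.Def_EtCech
import Mathlib.Algebra.Homology.ShortComplex.Ab
import Mathlib.Algebra.Category.Grp.Adjunctions
import Mathlib.Algebra.Category.Grp.Abelian
/-!
Čech cohomology of injective presheaves vanishes in positive degrees.
-/

set_option autoImplicit false
set_option backward.isDefEq.respectTransparency false
set_option backward.isDefEq.respectTransparency.types false

universe w v u

open CategoryTheory CategoryTheory.Limits Opposite Simplicial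

noncomputable section

namespace Groth.Agent.CechInjective

variable {C : Type u} [Category.{v} C] [LocallySmall.{w} C] {U : C} [HasFiniteProducts (Over U)] {ι : Type w}
  (Uf : ι → Over U)

/-- The Čech object of the family. -/
abbrev E : SimplicialObject (FormalCoproduct.{w} (Over U)) :=
  (FormalCoproduct.mk ι Uf).cech

/-- Points of the Čech object in degree `n`. -/
def Pt (n : ℕ) (W : C) : Type w :=
  Σ i : ((E Uf).obj (op ⦋n⦌)).I, Shrink.{w} (W ⟶ (((E Uf).obj (op ⦋n⦌)).obj i).left)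

variable {Uf}

/-- A point from a morphism. -/
def Pt.mk' {n : ℕ} {W : C} (i : Fin (n + 1) → ι) (z : W ⟶ (((E Uf).obj (op ⦋n⦌)).obj i).left) : Pt Uf n W :=
  ⟨i, equivShrink _ z⟩

/-- The underlying morphism. -/
def Pt.hom {n : ℕ} {W : C} (p : Pt Uf n W) : W ⟶ (((E Uf).obj (op ⦋n⦌)).obj p.1).left :=
  (equivShrink _).symm p.2

theorem Pt.hom_mk' {n : ℕ} {W : C} (i : Fin (n + 1) → ι) (z : W ⟶ (((E Uf).obj (op ⦋n⦌)).obj i).left) :
    (Pt.mk' i z).hom = z :=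
  Equiv.symm_apply_apply _ _

/-- The map to the base of a point. -/
def Pt.base {n : ℕ} {W : C} (p : Pt Uf n W) : W ⟶ U :=
  p.hom ≫ (((E Uf).obj (op ⦋n⦌)).obj p.1).hom

/-- The components of a point. -/
def Pt.comp {n : ℕ} {W : C} (p : Pt Uf n W) (a : Fin (n + 1)) : Σ j, W ⟶ (Uf j).left :=
  ⟨p.1 a, p.hom ≫ (Pi.π (Uf ∘ p.1) a).left⟩

theorem Pt.ext {n : ℕ} {W : C} {p q : Pt Uf n W} (hb : p.base = q.base) (hc : ∀ a, p.comp a = q.comp a) : p = q := by
  obtain ⟨i, z⟩ := p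
  obtain ⟨i', z'⟩ := q
  obtain rfl : i = i' := funext fun a => congrArg Sigma.fst (hc a)
  congr 1
  apply (equivShrink _).symm.injective
  let f : Over.mk (Pt.base (⟨i, z⟩ : Pt Uf n W)) ⟶ ∏ᶜ (Uf ∘ i) := Over.homMk ((equivShrink _).symm z) rfl
  let g : Over.mk (Pt.base (⟨i, z⟩ : Pt Uf n W)) ⟶ ∏ᶜ (Uf ∘ i) := Over.homMk ((equivShrink _).symm z') hb.symm
  have e : f = g := Pi.hom_ext _ _ fun a => Over.OverMorphism.ext
    (eq_of_heq (Sigma.ext_iff.1 (hc a)).2)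
  exact congrArg CommaMorphism.left e

/-- The point with given components. -/
def Pt.lift {n : ℕ} {W : C} (a : W ⟶ U) (c : Fin (n + 1) → Σ j, W ⟶ (Uf j).left)
    (hc : ∀ k, (c k).2 ≫ (Uf (c k).1).hom = a) : Pt Uf n W :=
  Pt.mk' (fun k => (c k).1)
    (Pi.lift (f := Uf ∘ fun k => (c k).1) (fun k => (Over.homMk (c k).2 (hc k) : Over.mk a ⟶ Uf (c k).1))).left

theorem Pt.comp_lift {n : ℕ} {W : C} (a : W ⟶ U) (c : Fin (n + 1) → Σ j, W ⟶ (Uf j).left)
    (hc : ∀ k, (c k).2 ≫ (Uf (c k).1).hom = a) (k : Fin (n + 1)) : (Pt.lift a c hc).comp k = c k := by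
  refine Sigma.ext rfl (heq_of_eq ?_)
  show (Pt.lift a c hc).hom ≫ _ = _
  rw [show (Pt.lift a c hc).hom = _ from Pt.hom_mk' _ _]
  exact congrArg CommaMorphism.left (Pi.lift_π (f := Uf ∘ fun k => (c k).1) _ k)

theorem Pt.base_lift {n : ℕ} {W : C} (a : W ⟶ U) (c : Fin (n + 1) → Σ j, W ⟶ (Uf j).left)
    (hc : ∀ k, (c k).2 ≫ (Uf (c k).1).hom = a) : (Pt.lift a c hc).base = a := by
  show (Pt.lift a c hc).hom ≫ _ = _
  rw [show (Pt.lift a c hc).hom = _ from Pt.hom_mk' _ _]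
  exact Over.w _

theorem Pt.comp_w {n : ℕ} {W : C} (p : Pt Uf n W) (a : Fin (n + 1)) :
    (p.comp a).2 ≫ (Uf (p.comp a).1).hom = p.base := by
  show (p.hom ≫ (Pi.π (Uf ∘ p.1) a).left) ≫ _ = p.hom ≫ _
  rw [Category.assoc]
  exact congrArg (p.hom ≫ ·) (Over.w (Pi.π (Uf ∘ p.1) a))

variable (Uf)

/-- The action of a simplicial map on points. -/
def ptMap {m n : ℕ} (θ : ⦋m⦌ ⟶ ⦋n⦌) (W : C) (p : Pt Uf n W) : Pt Uf m W :=
  Pt.mk' (((E Uf).map θ.op).f p.1) (p.hom ≫ (((E Uf).map θ.op).φ p.1).left)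

theorem ptMap_base {m n : ℕ} (θ : ⦋m⦌ ⟶ ⦋n⦌) (W : C) (p : Pt Uf n W) : (ptMap Uf θ W p).base = p.base := by
  show (ptMap Uf θ W p).hom ≫ _ = p.hom ≫ _
  rw [show (ptMap Uf θ W p).hom = _ from Pt.hom_mk' _ _, Category.assoc]
  exact congrArg (p.hom ≫ ·) (Over.w _)

theorem ptMap_comp {m n : ℕ} (θ : ⦋m⦌ ⟶ ⦋n⦌) (W : C) (p : Pt Uf n W) (a : Fin (m + 1)) :
    (ptMap Uf θ W p).comp a = p.comp (θ.toOrderHom a) := by
  refine Sigma.ext rfl (heq_of_eq ?_)
  show (ptMap Uf θ W p).hom ≫ _ = p.hom ≫ _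
  rw [show (ptMap Uf θ W p).hom = _ from Pt.hom_mk' _ _, Category.assoc]
  refine congrArg (p.hom ≫ ·) ?_
  exact congrArg CommaMorphism.left (Pi.lift_π (f := Uf ∘ (p.1 ∘ θ.toOrderHom)) _ a)

/-- The presheaf of points. -/
def pts (n : ℕ) : Cᵒᵖ ⥤ Type w where
  obj W := Pt Uf n W.unop
  map g := TypeCat.ofHom fun p => Pt.mk' p.1 (g.unop ≫ p.hom)
  map_id W := by
    ext p
    show Pt.mk' p.1 (𝟙 _ ≫ p.hom) = p
    rw [Category.id_comp]
    exact Sigma.ext rfl (heq_of_eq (Equiv.apply_symm_apply _ _))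
  map_comp g h := by
    ext p
    show Pt.mk' p.1 ((h.unop ≫ g.unop) ≫ p.hom) = Pt.mk' p.1 (h.unop ≫ (Pt.mk' p.1 (g.unop ≫ p.hom)).hom)
    rw [Category.assoc]
    exact congrArg (fun z => Pt.mk' p.1 (h.unop ≫ z)) (Pt.hom_mk' _ _).symm

/-- The face maps of points. -/
def ptsMap {m n : ℕ} (θ : ⦋m⦌ ⟶ ⦋n⦌) : pts Uf n ⟶ pts Uf m where
  app W := TypeCat.ofHom (ptMap Uf θ W.unop)
  naturality W W' g := by
    ext p
    show Pt.mk' _ ((Pt.mk' p.1 (g.unop ≫ p.hom)).hom ≫ (((E Uf).map θ.op).φ p.1).left) =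
      Pt.mk' _ (g.unop ≫ (ptMap Uf θ W.unop p).hom)
    rw [show (ptMap Uf θ W.unop p).hom = _ from Pt.hom_mk' _ _]
    exact congrArg (fun z => Pt.mk' _ z) ((congrArg (· ≫ _) (Pt.hom_mk' _ _)).trans (Category.assoc _ _ _))

/-- The free presheaf on the points. -/
abbrev fr (n : ℕ) : Cᵒᵖ ⥤ AddCommGrpCat.{w} :=
  pts Uf n ⋙ AddCommGrpCat.free

/-- The alternating sum of the faces. -/
def dfr (n : ℕ) : fr Uf (n + 1) ⟶ fr Uf n :=
  ∑ k : Fin (n + 2), (-1 : ℤ) ^ (k : ℕ) • Functor.whiskerRight (ptsMap Uf (SimplexCategory.δ k)) AddCommGrpCat.free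

theorem sum_hom_apply {A B : AddCommGrpCat.{w}} {κ : Type*} (t : Finset κ) (f : κ → (A ⟶ B)) (x : A) :
    (∑ k ∈ t, f k) x = ∑ k ∈ t, f k x := by
  classical
  induction t using Finset.induction_on with
  | empty => simp only [Finset.sum_empty]; rfl
  | insert k t hk ih => rw [Finset.sum_insert hk, Finset.sum_insert hk, ← ih]; rfl

theorem map_map_apply (P : Cᵒᵖ ⥤ AddCommGrpCat.{w}) {A B D : Cᵒᵖ} (f : A ⟶ B) (g : B ⟶ D) (x : P.obj A) :
    P.map g (P.map f x) = P.map (f ≫ g) x := by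
  rw [Functor.map_comp, ConcreteCategory.comp_apply]

theorem zsmul_hom_apply {A B : AddCommGrpCat.{w}} (m : ℤ) (f : A ⟶ B) (x : A) : (m • f) x = m • f x := rfl

/-- A generator. -/
def gen {n : ℕ} (W : Cᵒᵖ) (p : Pt Uf n W.unop) : (fr Uf n).obj W :=
  FreeAbelianGroup.of p

theorem dfr_of (n : ℕ) (W : Cᵒᵖ) (p : Pt Uf (n + 1) W.unop) :
    (dfr Uf n).app W (gen Uf W p) =
      ∑ k : Fin (n + 2), (-1 : ℤ) ^ (k : ℕ) • gen Uf W (ptMap Uf (SimplexCategory.δ k) W.unop p) := by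
  simp only [dfr, NatTrans.app_sum, NatTrans.app_zsmul]
  refine (sum_hom_apply _ _ _).trans (Finset.sum_congr rfl fun k _ => ?_)
  exact zsmul_hom_apply _ _ _

/-- The contraction on points. -/
def cons (W : C) (n : ℕ) (p : Pt Uf n W) : Pt Uf (n + 1) W :=
  Pt.lift p.base
    (Fin.cons (Classical.choose (⟨p.comp 0, p.comp_w 0⟩ : ∃ x : Σ j, W ⟶ (Uf j).left, x.2 ≫ (Uf x.1).hom = p.base)) p.comp)
    (Fin.cases
      (Classical.choose_spec (⟨p.comp 0, p.comp_w 0⟩ : ∃ x : Σ j, W ⟶ (Uf j).left, x.2 ≫ (Uf x.1).hom = p.base))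
      (fun k => p.comp_w k))

theorem face_zero_cons (W : C) (n : ℕ) (p : Pt Uf n W) :
    ptMap Uf (SimplexCategory.δ 0) W (cons Uf W n p) = p := by
  refine Pt.ext ?_ fun a => ?_
  · rw [ptMap_base, cons, Pt.base_lift]
  · rw [ptMap_comp, cons, Pt.comp_lift]
    rfl

theorem face_succ_cons (W : C) (n : ℕ) (k : Fin (n + 2)) (p : Pt Uf (n + 1) W) :
    ptMap Uf (SimplexCategory.δ k.succ) W (cons Uf W (n + 1) p) =
      cons Uf W n (ptMap Uf (SimplexCategory.δ k) W p) := by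
  refine Pt.ext ?_ fun a => ?_
  · rw [ptMap_base, cons, Pt.base_lift, cons, Pt.base_lift, ptMap_base]
  · rw [ptMap_comp, cons, Pt.comp_lift, cons, Pt.comp_lift]
    refine Fin.cases ?_ (fun b => ?_) a
    · rw [show (SimplexCategory.δ k.succ).toOrderHom 0 = 0 from Fin.succAbove_ne_zero_zero (Fin.succ_ne_zero k)]
      simp only [Fin.cons_zero]
      congr! 2
      rw [ptMap_base]
    · rw [show (SimplexCategory.δ k.succ).toOrderHom b.succ = ((SimplexCategory.δ k).toOrderHom b).succ from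
        Fin.succ_succAbove_succ k b]
      simp only [Fin.cons_succ, ptMap_comp]

/-- The contraction. -/
def hfr (W : Cᵒᵖ) (n : ℕ) : (fr Uf n).obj W ⟶ (fr Uf (n + 1)).obj W :=
  AddCommGrpCat.free.map (TypeCat.ofHom (cons Uf W.unop n))

theorem hfr_of (W : Cᵒᵖ) (n : ℕ) (p : Pt Uf n W.unop) :
    hfr Uf W n (gen Uf W p) = gen Uf W (cons Uf W.unop n p) :=
  FreeAbelianGroup.map_of_apply p

theorem homotopy (W : Cᵒᵖ) (n : ℕ) :
    hfr Uf W (n + 1) ≫ (dfr Uf (n + 1)).app W + (dfr Uf n).app W ≫ hfr Uf W n = 𝟙 _ := by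
  refine AddCommGrpCat.hom_ext (FreeAbelianGroup.lift_ext _ _ fun p => ?_)
  show (dfr Uf (n + 1)).app W (hfr Uf W (n + 1) (gen Uf W p)) +
    hfr Uf W n ((dfr Uf n).app W (gen Uf W p)) = gen Uf W p
  rw [hfr_of, dfr_of, dfr_of]
  refine (congrArg₂ (· + ·) rfl (map_sum (hfr Uf W n).hom _ _)).trans ?_
  simp only [map_zsmul, hfr_of]
  rw [Fin.sum_univ_succ, face_zero_cons]
  simp only [Fin.val_zero, pow_zero, one_smul, Fin.val_succ, face_succ_cons]
  rw [add_assoc, ← Finset.sum_add_distrib, Finset.sum_eq_zero fun k _ => ?_, add_zero]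
  rw [pow_succ, mul_neg_one, neg_smul]
  exact neg_add_cancel _

theorem exists_extend {I : Cᵒᵖ ⥤ AddCommGrpCat.{w}} [Injective I] (n : ℕ) (ψ : fr Uf (n + 1) ⟶ I)
    (hψ : dfr Uf (n + 1) ≫ ψ = 0) : ∃ φ : fr Uf n ⟶ I, dfr Uf n ≫ φ = ψ := by
  let D : fr Uf (n + 1) ⟶ fr Uf n := dfr Uf n
  let S : ShortComplex (Cᵒᵖ ⥤ AddCommGrpCat.{w}) := ShortComplex.mk (kernel.ι D) D (kernel.condition D)
  have hS : S.Exact := ShortComplex.exact_of_f_is_kernel _ (kernelIsKernel D)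
  have hk : kernel.ι D ≫ ψ = 0 := by
    refine NatTrans.ext (funext fun W => ?_)
    have hx : (kernel.ι D).app W ≫ D.app W = 0 := by
      rw [← NatTrans.comp_app, kernel.condition]; rfl
    have hψ' : (dfr Uf (n + 1)).app W ≫ ψ.app W = 0 := by
      rw [← NatTrans.comp_app, hψ]; rfl
    have h : (kernel.ι D).app W = (kernel.ι D).app W ≫ hfr Uf W (n + 1) ≫ (dfr Uf (n + 1)).app W := by
      conv_lhs => rw [← Category.comp_id ((kernel.ι D).app W), ← homotopy Uf W n]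
      rw [Preadditive.comp_add, show (dfr Uf n).app W = D.app W from rfl, ← Category.assoc _ (D.app W), hx,
        zero_comp, add_zero]
    rw [NatTrans.comp_app, h]
    simp only [Category.assoc, hψ', comp_zero]
    rfl
  exact ⟨hS.descToInjective ψ hk, hS.comp_descToInjective ψ hk⟩

/-- The value of a presheaf at a term of the Čech object. -/
abbrev Coch (P : Cᵒᵖ ⥤ AddCommGrpCat.{w}) (n : ℕ) : AddCommGrpCat.{w} :=
  ∏ᶜ fun i : ((E Uf).obj (op ⦋n⦌)).I => P.obj (op (((E Uf).obj (op ⦋n⦌)).obj i).left)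

theorem d_apply (P : Cᵒᵖ ⥤ AddCommGrpCat.{w}) (n : ℕ) (b : Coch Uf P n) (i : ((E Uf).obj (op ⦋n + 1⦌)).I) :
    (Pi.π (fun i => P.obj (op (((E Uf).obj (op ⦋n + 1⦌)).obj i).left)) i)
      ((EtCech.cechComplex Uf P).d n (n + 1) b) =
    ∑ k : Fin (n + 2), (-1 : ℤ) ^ (k : ℕ) •
      P.map (((E Uf).map (SimplexCategory.δ k).op).φ i).left.op
        ((Pi.π (fun i => P.obj (op (((E Uf).obj (op ⦋n⦌)).obj i).left))
          (((E Uf).map (SimplexCategory.δ k).op).f i)) b) := by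
  have e : (EtCech.cechComplex Uf P).d n (n + 1) =
      AlgebraicTopology.AlternatingCofaceMapComplex.objD
        ((FormalCoproduct.cosimplicialObjectFunctor (E Uf)).obj ((Over.forget U).op ⋙ P)) n :=
    CochainComplex.of_d
      (fun m => ((FormalCoproduct.cosimplicialObjectFunctor (E Uf)).obj ((Over.forget U).op ⋙ P)).obj ⦋m⦌)
      (AlgebraicTopology.AlternatingCofaceMapComplex.objD
        ((FormalCoproduct.cosimplicialObjectFunctor (E Uf)).obj ((Over.forget U).op ⋙ P))) n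
  rw [e, AlgebraicTopology.AlternatingCofaceMapComplex.objD]
  refine (congrArg _ (sum_hom_apply _ _ _)).trans ?_
  refine (map_sum (Pi.π (fun i => P.obj (op (((E Uf).obj (op ⦋n + 1⦌)).obj i).left)) i).hom _ _).trans
    (Finset.sum_congr rfl fun k _ => ?_)
  refine (map_zsmul (Pi.π (fun i => P.obj (op (((E Uf).obj (op ⦋n + 1⦌)).obj i).left)) i).hom _ _).trans ?_
  refine congrArg ((-1 : ℤ) ^ (k : ℕ) • ·) ?_
  exact ConcreteCategory.congr_hom (Pi.lift_π (f := fun i => P.obj (op (((E Uf).obj (op ⦋n + 1⦌)).obj i).left))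
    (fun i => Pi.π (fun i => P.obj (op (((E Uf).obj (op ⦋n⦌)).obj i).left))
      (((E Uf).map (SimplexCategory.δ k).op).f i) ≫ P.map (((E Uf).map (SimplexCategory.δ k).op).φ i).left.op) i) b

/-- The natural map attached to a cochain. -/
def ofCoch {P : Cᵒᵖ ⥤ AddCommGrpCat.{w}} {n : ℕ} (c : Coch Uf P n) : fr Uf n ⟶ P where
  app W := AddCommGrpCat.ofHom (FreeAbelianGroup.lift fun p : Pt Uf n W.unop =>
    P.map p.hom.op ((Pi.π (fun i => P.obj (op (((E Uf).obj (op ⦋n⦌)).obj i).left)) p.1) c))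
  naturality W W' g := by
    refine AddCommGrpCat.hom_ext (FreeAbelianGroup.lift_ext _ _ fun p => ?_)
    simp only [AddCommGrpCat.hom_comp, AddMonoidHom.comp_apply]
    refine (FreeAbelianGroup.lift_apply_of _ _).trans ?_
    refine Eq.trans ?_ (congrArg (P.map g) (FreeAbelianGroup.lift_apply_of _ _)).symm
    refine Eq.trans ?_ (map_map_apply P _ _ _).symm
    exact congrArg (fun z => (P.map (Quiver.Hom.op z))
      ((Pi.π (fun i => P.obj (op (((E Uf).obj (op ⦋n⦌)).obj i).left)) p.1) c)) (Pt.hom_mk' _ _)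

theorem ofCoch_gen {P : Cᵒᵖ ⥤ AddCommGrpCat.{w}} {n : ℕ} (c : Coch Uf P n) (W : Cᵒᵖ) (p : Pt Uf n W.unop) :
    (ofCoch Uf c).app W (gen Uf W p) =
      P.map p.hom.op ((Pi.π (fun i => P.obj (op (((E Uf).obj (op ⦋n⦌)).obj i).left)) p.1) c) :=
  FreeAbelianGroup.lift_apply_of _ _

theorem dfr_ofCoch {P : Cᵒᵖ ⥤ AddCommGrpCat.{w}} {n : ℕ} (c : Coch Uf P n) :
    dfr Uf n ≫ ofCoch Uf c = ofCoch Uf ((EtCech.cechComplex Uf P).d n (n + 1) c : Coch Uf P (n + 1)) := by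
  refine NatTrans.ext (funext fun W => AddCommGrpCat.hom_ext (FreeAbelianGroup.lift_ext _ _ fun p => ?_))
  show (ofCoch Uf c).app W ((dfr Uf n).app W (gen Uf W p)) = (ofCoch Uf _).app W (gen Uf W p)
  rw [dfr_of, ofCoch_gen, map_sum, d_apply, map_sum]
  refine Finset.sum_congr rfl fun k _ => ?_
  rw [map_zsmul, map_zsmul, ofCoch_gen]
  refine congrArg ((-1 : ℤ) ^ (k : ℕ) • ·) ?_
  refine Eq.trans ?_ (map_map_apply P _ _ _).symm
  exact congrArg (fun z => (P.map (Quiver.Hom.op z)) _) (Pt.hom_mk' _ _)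

theorem isZero_cechH_injective (I : Cᵒᵖ ⥤ AddCommGrpCat.{w}) [Injective I] (p : ℕ) :
    IsZero (EtCech.cechH Uf I (p + 1)) := by
  rw [← HomologicalComplex.exactAt_iff_isZero_homology,
    HomologicalComplex.exactAt_iff' _ p (p + 1) (p + 2) (by simp) (by simp), ShortComplex.ab_exact_iff]
  intro c hc
  let c' : Coch Uf I (p + 1) := c
  have h0 : dfr Uf (p + 1) ≫ ofCoch Uf c' = 0 := by
    rw [dfr_ofCoch]
    have hc' : ((EtCech.cechComplex Uf I).d (p + 1) (p + 1 + 1) c' : Coch Uf I (p + 1 + 1)) = 0 := hc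
    rw [hc']
    refine NatTrans.ext (funext fun W => AddCommGrpCat.hom_ext (FreeAbelianGroup.lift_ext _ _ fun q => ?_))
    show (ofCoch Uf (0 : Coch Uf I (p + 1 + 1))).app W (gen Uf W q) = 0
    rw [ofCoch_gen, map_zero, map_zero]
  obtain ⟨φ, hφ⟩ := exists_extend Uf p (ofCoch Uf c') h0
  let b : Coch Uf I p := (Concrete.productEquiv _).symm fun i => φ.app _ (gen Uf (op _) (Pt.mk' i (𝟙 _)))
  refine ⟨b, ?_⟩
  show ((EtCech.cechComplex Uf I).d p (p + 1) b : Coch Uf I (p + 1)) = c'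
  refine Concrete.limit_ext _ _ _ fun ⟨i⟩ => ?_
  refine (d_apply Uf I p b i).trans ?_
  have h := ConcreteCategory.congr_hom (NatTrans.congr_app hφ (op _)) (gen Uf (op _) (Pt.mk' i (𝟙 _)))
  rw [NatTrans.comp_app, ConcreteCategory.comp_apply, dfr_of, map_sum, ofCoch_gen] at h
  have hr : I.map (Pt.mk' i (𝟙 _)).hom.op
      ((Pi.π (fun i => I.obj (op (((E Uf).obj (op ⦋p + 1⦌)).obj i).left)) i) c') =
      (Pi.π (fun i => I.obj (op (((E Uf).obj (op ⦋p + 1⦌)).obj i).left)) i) c' := by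
    rw [Pt.hom_mk', op_id]
    exact ConcreteCategory.congr_hom (I.map_id _) _
  refine Eq.trans (Finset.sum_congr rfl fun k _ => ?_) (h.trans hr)
  rw [map_zsmul]
  refine congrArg ((-1 : ℤ) ^ (k : ℕ) • ·) ?_
  refine (congrArg (I.map _) (Concrete.productEquiv_symm_apply_π
    (fun i => I.obj (op (((E Uf).obj (op ⦋p⦌)).obj i).left)) _ _)).trans ?_
  refine (NatTrans.naturality_apply φ _ _).symm.trans (congrArg (φ.app _) ?_)
  refine (FreeAbelianGroup.map_of_apply _).trans (congrArg FreeAbelianGroup.of ?_)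
  show Pt.mk' _ (_ ≫ (Pt.mk' _ (𝟙 _)).hom) = Pt.mk' _ ((Pt.mk' i (𝟙 _)).hom ≫ _)
  rw [Pt.hom_mk', Pt.hom_mk', Category.comp_id, Category.id_comp]
  rfl

end Groth.Agent.CechInjective
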